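import Groth.Agent.Lib.MeroK.DivMod
import Groth.Agent.Lib.MeroK.DivTensor
import Groth.Agent.Lib.Curves.Positivity
import Mathlib.AlgebraicGeometry.Stalk

/-!
# The map `O_X(D') ⟶ O_X(D)` for `D' ≤ D`
-/

set_option autoImplicit false
universe u

noncomputable section

open CategoryTheory CategoryTheory.Limits AlgebraicGeometry TopologicalSpace Opposite

namespace Groth.Agent.Lib.MeroCurveLE

open Groth.Agent.Lib.AssPt.Basic Groth.Agent.Lib.MeroK.Basic Mero
open Groth.Agent.Lib.TensorMod.Dual Groth.Agent.Lib.TensorMod.Gen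

variable {X : Scheme.{u}}

theorem divCond_mono {D D' : Divisor X} (hle : DivLE D' D) {x : X} {t : KStalk X x}
    (ht : DivCond D' x t) : DivCond D x t := by
  intro g hg
  obtain ⟨a, ha⟩ := hle x
  obtain ⟨g', hg'⟩ := QuotientGroup.mk_surjective (D'.1 x)
  let ua : (KStalk X x)ˣ := (IsLocalization.map_units (KStalk X x) a).unit
  have h1 : (QuotientGroup.mk g : Germ X x) = QuotientGroup.mk (g' * ua) := by
    rw [QuotientGroup.mk_mul, ← ha, hg', ← hg]
    show D.1 x = D'.1 x * (D.1 x * (D'.1 x)⁻¹)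
    rw [mul_comm (D.1 x), mul_inv_cancel_left]
  obtain ⟨w, hw⟩ := QuotientGroup.eq.mp h1.symm
  obtain ⟨r, hr⟩ := ht g' hg'.symm
  refine ⟨r * a.1 * w, ?_⟩
  have h2 : g = g' * ua * Units.map (algebraMap (X.presheaf.stalk x) (KStalk X x)).toMonoidHom w := by
    rw [hw, mul_inv_cancel_left]
  rw [map_mul, map_mul, hr, h2, Units.val_mul, Units.val_mul, Units.coe_map]
  simp only [RingHom.toMonoidHom_eq_coe, MonoidHom.coe_coe]
  show t * (g' : KStalk X x) * algebraMap _ _ a.1 * _ = t * ((g' : KStalk X x) * algebraMap _ _ a.1 * _)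
  ring

/-- The inclusion `O_X(D') ⟶ O_X(D)`. -/
def incl {D D' : Divisor X} (hle : DivLE D' D) : divMod D' ⟶ divMod D :=
  ⟨PresheafOfModules.homMk (M₁ := (divMod D').val) (M₂ := (divMod D).val)
    { app := fun U => AddCommGrpCat.ofHom
        { toFun := fun (f : Γ(divMod D', U.unop)) =>
            (⟨f.1, f.2.1, fun y => divCond_mono hle (f.2.2 y)⟩ : Γ(divMod D, U.unop))
          map_zero' := rfl
          map_add' := fun _ _ => rfl }
      naturality := by intros; rfl }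
    (fun _ _ _ => rfl)⟩

theorem incl_app_apply {D D' : Divisor X} (hle : DivLE D' D) (U : X.Opens) (f : Γ(divMod D', U))
    (y : U) : ((incl hle).app U f).1 y = f.1 y := rfl

theorem mono_incl {D D' : Divisor X} (hle : DivLE D' D) : Mono (incl hle) :=
  (Modules.Stalk.mono_iff_app_injective _).mpr fun U f g h => by
    refine Subtype.ext (funext fun y => ?_)
    exact congrFun (congrArg Subtype.val h) y

/-- At a generic point every regular germ is a unit. -/
theorem isUnit_regStalk [IsLocallyNoetherian X] {x : X}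
    (hx : H34.VanishOne.IsGenPt (X := X.toTopCat) x) (a : regStalk X x) : IsUnit a.1 := by
  by_contra hu
  have hsub : ∀ p : PrimeSpectrum (X.presheaf.stalk x), p = IsLocalRing.closedPoint _ := by
    intro p
    refine (Scheme.Hom.isEmbedding (X.fromSpecStalk x)).injective ?_
    rw [Scheme.fromSpecStalk_closedPoint]
    have hp : (X.fromSpecStalk x) p ∈ Set.range (X.fromSpecStalk x) := Set.mem_range_self p
    rw [Scheme.range_fromSpecStalk] at hp
    haveI : T0Space X.toTopCat := inferInstanceAs (T0Space X)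
    exact (H34.VanishOne.eq_of_specializes (X := X.toTopCat) hx hp).symm
  have hm : a.1 ∈ nilradical (X.presheaf.stalk x) := by
    rw [nilradical_eq_sInf]
    refine Submodule.mem_sInf.mpr fun P hP => ?_
    have := congrArg PrimeSpectrum.asIdeal (hsub ⟨P, hP⟩)
    rw [show P = IsLocalRing.maximalIdeal (X.presheaf.stalk x) from this]
    exact hu
  obtain ⟨n, hn⟩ := mem_nilradical.mp hm
  exact nonZeroDivisors.coe_ne_zero (⟨_, pow_mem (regStalk_le_nonZeroDivisors x a.2) n⟩ :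
    nonZeroDivisors (X.presheaf.stalk x)) hn

theorem isTorsion_cokernel_incl [IsLocallyNoetherian X] {D D' : Divisor X} (hle : DivLE D' D) :
    Curves.Positivity.IsTorsion (cokernel (incl hle)) := by
  intro x hx
  obtain ⟨U₁, hx₁, f₁, hf₁⟩ := D.2 x
  obtain ⟨U₂, hx₂, f₂, hf₂⟩ := D'.2 x
  obtain ⟨e, he, hev⟩ := MeroK.DivMod.exists_gen D f₁ hf₁
  obtain ⟨e', he', hev'⟩ := MeroK.DivMod.exists_gen D' f₂ hf₂
  have hbij := MeroK.RegMero.stalk_gen he hx₁
  have hsurjK : Function.Surjective (algebraMap (X.presheaf.stalk x) (KStalk X x)) :=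
    (IsLocalization.atUnits (X.presheaf.stalk x) (regStalk X x)
      (S := KStalk X x) (fun a ha => isUnit_regStalk hx ⟨a, ha⟩)).surjective
  have hsurj : Function.Surjective (Modules.StalkModule.stalkMapₗ (incl hle) x) := by
    intro z
    obtain ⟨c, rfl⟩ := hbij.2 z
    obtain ⟨u, hu⟩ := hsurjK ((↑f₁⁻¹ : Γ(kmod X, U₁)).1 ⟨x, hx₁⟩ * (↑f₂ : Γ(kmod X, U₂)).1 ⟨x, hx₂⟩)
    refine ⟨(c * u) • (divMod D').presheaf.germ U₂ x hx₂ e', ?_⟩
    rw [map_smul, Modules.StalkModule.stalkMapₗ_germ]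
    obtain ⟨d, hd⟩ := hbij.2 ((divMod D).presheaf.germ U₂ x hx₂ ((incl hle).app U₂ e'))
    dsimp only at hd ⊢
    rw [← hd, smul_smul]
    refine congrArg (fun r => r • (divMod D).presheaf.germ U₁ x hx₁ e) ?_
    obtain ⟨V, hxV, d', hd'⟩ := X.presheaf.exists_germ_eq d
    rw [← hd', ← TopCat.Presheaf.germ_res_apply (divMod D).presheaf
      (homOfLE (inf_le_right : V ⊓ U₁ ≤ U₁)) x ⟨hxV, hx₁⟩ e,
      ← TopCat.Presheaf.germ_res_apply X.presheaf (homOfLE (inf_le_left : V ⊓ U₁ ≤ V)) x ⟨hxV, hx₁⟩ d',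
      ← Modules.StalkModule.germ_smul] at hd
    obtain ⟨W, hxW, iW, jW, hW⟩ := TopCat.Presheaf.germ_eq (divMod D).presheaf x _ _ _ _ hd
    have h3 := congrFun (congrArg Subtype.val hW) ⟨x, hxW⟩
    have h4 : algebraMap (X.presheaf.stalk x) (KStalk X x) d * (↑f₁⁻¹ : Γ(kmod X, U₁)).1 ⟨x, hx₁⟩ =
        (↑f₂⁻¹ : Γ(kmod X, U₂)).1 ⟨x, hx₂⟩ := by
      rw [← hev ⟨x, hx₁⟩, ← hev' ⟨x, hx₂⟩, ← MeroK.DivMod.smul_eq_algebraMap_mul, ← hd']
      refine Eq.trans ?_ h3
      show _ = X.presheaf.germ (V ⊓ U₁) x _ (X.presheaf.map _ d') • e.1 ⟨x, hx₁⟩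
      rw [TopCat.Presheaf.germ_res_apply]
    refine algebraMap_KStalk_injective x ?_
    rw [map_mul, map_mul, hu]
    calc algebraMap (X.presheaf.stalk x) (KStalk X x) c *
          ((↑f₁⁻¹ : Γ(kmod X, U₁)).1 ⟨x, hx₁⟩ * (↑f₂ : Γ(kmod X, U₂)).1 ⟨x, hx₂⟩) *
          algebraMap (X.presheaf.stalk x) (KStalk X x) d
        = algebraMap (X.presheaf.stalk x) (KStalk X x) c * ((algebraMap (X.presheaf.stalk x) (KStalk X x) d *
            (↑f₁⁻¹ : Γ(kmod X, U₁)).1 ⟨x, hx₁⟩) * (↑f₂ : Γ(kmod X, U₂)).1 ⟨x, hx₂⟩) := by ring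
      _ = algebraMap (X.presheaf.stalk x) (KStalk X x) c := by
          rw [h4, ← kmod_mul_apply, Units.inv_mul, kmod_one_apply, mul_one]
  have hepi : Epi ((Modules.Stalk.stalkFunctor X x).map (incl hle)) :=
    (AddCommGrpCat.epi_iff_surjective _).mpr hsurj
  have hz : IsZero ((Modules.Stalk.stalkFunctor X x).obj (cokernel (incl hle))) := by
    refine IsZero.of_epi_eq_zero ((Modules.Stalk.stalkFunctor X _).map (cokernel.π (incl hle))) ?_
    rw [← cancel_epi ((Modules.Stalk.stalkFunctor X _).map (incl hle)), comp_zero, ← Functor.map_comp,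
      cokernel.condition, Functor.map_zero]
  exact AddCommGrpCat.subsingleton_of_isZero hz

end Groth.Agent.Lib.MeroCurveLE
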